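import Mathlib
import Cfsg.Agent.Lib.TensorDerange.Derange

/-!
# Kronecker products of elements of prime order
-/

set_option autoImplicit false

namespace Cfsg.Agent.Lib.SpTensorDerange

open Matrix
open scoped Kronecker
open Cfsg.Agent.Lib.TensorDerange (toRect kron_mulVec rank_conj rank_one_kron rank_kron_sub_ge
  exists_dvd_sub_one)

variable {F : Type*} [Field F] {a b : ℕ}

/-- A lower bound from a subspace generating the first factor. -/
theorem rank_kron_sub_ge_gen {A : Matrix (Fin a) (Fin a) F} {B : Matrix (Fin b) (Fin b) F}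
    (hB : IsUnit B.det) (s : F) (T : Submodule F (Fin a → F))
    (hgen : ∀ W : Submodule F (Fin a → F), T ≤ W → (∀ w ∈ W, w ᵥ* A ∈ W) → W = ⊤) :
    a * b ≤ (A ⊗ₖ B - s • 1).rank + Module.finrank F T * b := by
  classical
  set bT := Module.finBasis F T
  let Φ : (Fin a × Fin b → F) →ₗ[F] (Fin (Module.finrank F T) → Fin b → F) :=
    { toFun := fun v k => (bT k : Fin a → F) ᵥ* toRect v
      map_add' := fun v w => by
        funext k
        show (bT k : Fin a → F) ᵥ* toRect (v + w) = _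
        rw [show toRect (v + w) = toRect v + toRect w from rfl, Matrix.vecMul_add]
        rfl
      map_smul' := fun c v => by
        funext k
        show (bT k : Fin a → F) ᵥ* toRect (c • v) = _
        rw [show toRect (c • v) = c • toRect v from rfl, Matrix.vecMul_smul]
        rfl }
  set N := (A ⊗ₖ B - s • 1).mulVecLin
  have hinj : Function.Injective (Φ.comp (LinearMap.ker N).subtype) := by
    refine (injective_iff_map_eq_zero _).2 fun v hv => ?_
    set V := toRect (v : Fin a × Fin b → F)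
    set W : Submodule F (Fin a → F) := LinearMap.ker V.vecMulLinear
    have hker : A * V * Bᵀ = s • V := by
      ext i j
      have := congrFun (LinearMap.mem_ker.1 v.2) (i, j)
      rw [Matrix.mulVecLin_apply, Matrix.sub_mulVec, Matrix.smul_mulVec, Matrix.one_mulVec,
        Pi.sub_apply, Pi.zero_apply, sub_eq_zero, kron_mulVec] at this
      exact this
    have hTW : T ≤ W := by
      intro t ht
      have h1 : (⟨t, ht⟩ : T) = ∑ k, bT.repr ⟨t, ht⟩ k • bT k := (bT.sum_repr _).symm
      have h2 := congrArg Subtype.val h1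
      simp only [Submodule.coe_sum, Submodule.coe_smul] at h2
      rw [h2]
      refine Submodule.sum_mem _ fun k _ => Submodule.smul_mem _ _ ?_
      exact congrFun hv k
    have hall : W = ⊤ := by
      refine hgen W hTW fun w hw => ?_
      have hw0 : w ᵥ* V = 0 := hw
      show (w ᵥ* A) ᵥ* V = 0
      have h1 := congrArg (fun M => w ᵥ* M) hker
      simp only [Matrix.vecMul_smul, hw0, smul_zero] at h1
      rw [← Matrix.vecMul_vecMul, ← Matrix.vecMul_vecMul] at h1
      have h2 := congrArg (fun u => u ᵥ* (Bᵀ)⁻¹) h1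
      simp only [Matrix.zero_vecMul] at h2
      rw [Matrix.vecMul_vecMul ((w ᵥ* A) ᵥ* _), Matrix.mul_nonsing_inv _
        (by rw [Matrix.det_transpose]; exact hB), Matrix.vecMul_one] at h2
      exact h2
    refine Subtype.ext (funext fun ij => ?_)
    have hm : (Pi.single ij.1 1 : Fin a → F) ∈ W := by rw [hall]; trivial
    have := congrFun (show (Pi.single ij.1 1 : Fin a → F) ᵥ* V = 0 from hm) ij.2
    rw [Matrix.single_one_vecMul] at this
    exact this
  have h1 := LinearMap.finrank_le_finrank_of_injective hinj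
  rw [Module.finrank_pi_fintype, Finset.sum_const, Finset.card_univ, Fintype.card_fin,
    Module.finrank_fintype_fun_eq_card, Fintype.card_fin, smul_eq_mul] at h1
  have h2 := N.finrank_range_add_finrank_ker
  rw [Module.finrank_fintype_fun_eq_card, Fintype.card_prod, Fintype.card_fin, Fintype.card_fin] at h2
  show a * b ≤ Module.finrank F (LinearMap.range N) + _
  omega

/-- Swapping the two factors. -/
theorem rank_kron_comm (A : Matrix (Fin a) (Fin a) F) (B : Matrix (Fin b) (Fin b) F) (s : F) :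
    (B ⊗ₖ A - s • 1).rank = (A ⊗ₖ B - s • 1).rank := by
  have h : B ⊗ₖ A - s • 1 =
      (A ⊗ₖ B - s • 1).submatrix (Equiv.prodComm (Fin b) (Fin a)) (Equiv.prodComm (Fin b) (Fin a)) := by
    ext ⟨j, i⟩ ⟨l, k⟩
    simp only [Matrix.submatrix_apply, Equiv.prodComm_apply, Prod.swap_prod_mk, Matrix.sub_apply,
      Matrix.smul_apply, Matrix.kroneckerMap_apply, Matrix.one_apply, Prod.mk.injEq]
    by_cases h1 : i = k <;> by_cases h2 : j = l <;> simp [h1, h2, mul_comm]
  rw [h, Matrix.rank_submatrix]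

/-- The orbit of a moved row of a matrix of order `r`. -/
theorem exists_gen_subspace [Fintype F] {r m : ℕ} (hr : r.Prime) (hrq : ¬ r ∣ Fintype.card F)
    (hmin : ∀ j, 1 ≤ j → r ∣ Fintype.card F ^ j - 1 → m ≤ j) {A : Matrix (Fin a) (Fin a) F}
    (hA : A ^ r = 1) (hA1 : A ≠ 1) :
    m ≤ a ∧ ∃ T : Submodule F (Fin a → F), Module.finrank F T + m ≤ a + 1 ∧
      ∀ W : Submodule F (Fin a → F), T ≤ W → (∀ w ∈ W, w ᵥ* A ∈ W) → W = ⊤ := by
  classical
  obtain ⟨φ, hφ⟩ : ∃ φ : Fin a → F, φ ᵥ* A ≠ φ := by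
    by_contra h
    push Not at h
    refine hA1 (Matrix.ext fun i j => ?_)
    have := congrFun (h (Pi.single i 1)) j
    rw [Matrix.single_one_vecMul, Pi.single_apply] at this
    rw [Matrix.one_apply]
    exact this.trans (if_congr eq_comm rfl rfl)
  have hφ0 : φ ≠ 0 := fun h => hφ (by rw [h, Matrix.zero_vecMul])
  set C := Submodule.span F (Set.range fun k : ℕ => φ ᵥ* A ^ k) with hC
  have hinv : ∀ w ∈ C, A.vecMulLinear w ∈ C := by
    have : C ≤ C.comap A.vecMulLinear := by
      rw [hC, Submodule.span_le]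
      rintro _ ⟨k, rfl⟩
      refine Submodule.subset_span ⟨k + 1, ?_⟩
      show φ ᵥ* A ^ (k + 1) = (φ ᵥ* A ^ k) ᵥ* A
      rw [pow_succ, ← Matrix.vecMul_vecMul]
    exact fun w hw => this hw
  have hφC : φ ∈ C := Submodule.subset_span ⟨0, by simp⟩
  set f : Module.End F C := A.vecMulLinear.restrict hinv
  have hfk : ∀ (k : ℕ) (v : C), ((f ^ k) v : Fin a → F) = (v : Fin a → F) ᵥ* A ^ k := by
    intro k
    induction k with
    | zero => intro v; simp
    | succ k ih =>
      intro v
      rw [pow_succ', Module.End.mul_apply, pow_succ, ← Matrix.vecMul_vecMul, ← ih]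
      rfl
  have hfr : f ^ r = 1 := by
    refine LinearMap.ext fun v => Subtype.ext ?_
    rw [hfk, hA, Matrix.vecMul_one]
    rfl
  have hf1 : f ≠ 1 := fun h => hφ (by
    have := congrArg (fun g : Module.End F C => (g ⟨φ, hφC⟩ : Fin a → F)) h
    exact this)
  have hc : m ≤ Module.finrank F C := by
    set Φ := LinearMap.toMatrixAlgEquiv (Module.finBasis F C)
    have hM : Φ f ^ r = 1 := by rw [← map_pow, hfr, map_one]
    set u := Units.ofPowEqOne (Φ f) r hM hr.ne_zero
    have hu : u ≠ 1 := fun h => hf1 (Φ.injective (by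
      rw [map_one]
      exact congrArg Units.val h))
    haveI : Fact r.Prime := ⟨hr⟩
    have hor : orderOf u = r := orderOf_eq_prime (Units.ext (by
      rw [Units.val_pow_eq_pow_val]; exact hM)) hu
    obtain ⟨j, hj, hjc, hjr⟩ := exists_dvd_sub_one (n := Module.finrank F C) hr hrq
      (hor ▸ orderOf_dvd_natCard u)
    exact (hmin j hj hjr).trans hjc
  have hCa : Module.finrank F C ≤ a := C.finrank_le.trans (le_of_eq (by simp))
  refine ⟨hc.trans hCa, ?_⟩
  obtain ⟨C', hC'⟩ := C.exists_isCompl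
  refine ⟨Submodule.span F {φ} ⊔ C', ?_, fun W hTW hW => ?_⟩
  · have h1 := Submodule.finrank_add_eq_of_isCompl hC'
    rw [Module.finrank_fintype_fun_eq_card, Fintype.card_fin] at h1
    have h2 := Submodule.finrank_add_le_finrank_add_finrank (Submodule.span F ({φ} : Set (Fin a → F))) C'
    rw [finrank_span_singleton hφ0] at h2
    omega
  · have hk : ∀ k : ℕ, φ ᵥ* A ^ k ∈ W := by
      intro k
      induction k with
      | zero =>
        simp only [pow_zero, Matrix.vecMul_one]
        exact hTW (Submodule.mem_sup_left (Submodule.mem_span_singleton_self φ))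
      | succ k ih => rw [pow_succ, ← Matrix.vecMul_vecMul]; exact hW _ ih
    refine eq_top_iff.2 ?_
    rw [← hC'.sup_eq_top]
    exact sup_le (Submodule.span_le.2 (by rintro _ ⟨k, rfl⟩; exact hk k)) (le_sup_right.trans hTW)

/-- An element of order `r` in the first factor moves much. -/
theorem rank_kron_sub_ge_order [Fintype F] {r m : ℕ} (hr : r.Prime) (hrq : ¬ r ∣ Fintype.card F)
    (hm : 1 ≤ m) (hmin : ∀ j, 1 ≤ j → r ∣ Fintype.card F ^ j - 1 → m ≤ j)
    {A : Matrix (Fin a) (Fin a) F} {B : Matrix (Fin b) (Fin b) F}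
    (hA : A ^ r = 1) (hA1 : A ≠ 1) (hB : IsUnit B.det) (s : F) :
    m ≤ a ∧ b * (m - 1) ≤ (A ⊗ₖ B - s • 1).rank := by
  obtain ⟨hma, T, hT, hgen⟩ := exists_gen_subspace hr hrq hmin hA hA1
  have h := rank_kron_sub_ge_gen hB s T hgen
  refine ⟨hma, ?_⟩
  obtain ⟨m', rfl⟩ := Nat.exists_eq_add_of_le hm
  have h1 : Module.finrank F T * b + m' * b ≤ a * b := by
    rw [← add_mul]; exact Nat.mul_le_mul_right b (by omega)
  rw [Nat.add_sub_cancel_left, Nat.mul_comm]
  omega

/-- A scalar first factor gives ranks divisible by its size. -/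
theorem dvd_rank_of_scalar_left {K : Type*} [Field K] (f : F →+* K) (c : F)
    (B : Matrix (Fin b) (Fin b) F) (w : K) :
    a ∣ (((c • (1 : Matrix (Fin a) (Fin a) F)) ⊗ₖ B).map f - w • 1).rank := by
  refine ⟨((c • B).map f - w • 1).rank, ?_⟩
  rw [← rank_one_kron]
  congr 1
  ext ⟨i, j⟩ ⟨k, l⟩
  simp only [Matrix.sub_apply, Matrix.smul_apply, Matrix.map_apply, Matrix.kroneckerMap_apply,
    Matrix.one_apply, smul_eq_mul, Prod.mk.injEq, mul_sub, map_mul]
  by_cases h1 : i = k <;> by_cases h2 : j = l <;> simp [h1, h2]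

/-- A scalar second factor gives ranks divisible by its size. -/
theorem dvd_rank_of_scalar_right {K : Type*} [Field K] (f : F →+* K) (c : F)
    (A : Matrix (Fin a) (Fin a) F) (w : K) :
    b ∣ ((A ⊗ₖ (c • (1 : Matrix (Fin b) (Fin b) F))).map f - w • 1).rank := by
  have h := dvd_rank_of_scalar_left (a := b) f c A w
  have e : ∀ (X : Matrix (Fin a) (Fin a) F) (Y : Matrix (Fin b) (Fin b) F),
      (X ⊗ₖ Y).map f = X.map f ⊗ₖ Y.map f := fun X Y => by ext i j; simp
  have e' : ∀ (X : Matrix (Fin b) (Fin b) F) (Y : Matrix (Fin a) (Fin a) F),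
      (X ⊗ₖ Y).map f = X.map f ⊗ₖ Y.map f := fun X Y => by ext i j; simp
  rw [e', rank_kron_comm] at h
  rwa [e]

/-- Splitting `X ⊗ Y = 1`. -/
theorem scalars_of_kron_eq_one (ha : 0 < a) (hb : 0 < b) {A : Matrix (Fin a) (Fin a) F}
    {B : Matrix (Fin b) (Fin b) F} (h : A ⊗ₖ B = 1) :
    ∃ c : F, c ≠ 0 ∧ A = c • 1 ∧ B = c⁻¹ • 1 := by
  set i₀ : Fin a := ⟨0, ha⟩
  set j₀ : Fin b := ⟨0, hb⟩
  have hij : ∀ i k j l, A i k * B j l = if i = k ∧ j = l then 1 else 0 := by
    intro i k j l
    have := congrFun (congrFun h (i, j)) (k, l)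
    simpa [Matrix.one_apply] using this
  have h0 := hij i₀ i₀ j₀ j₀
  rw [if_pos ⟨rfl, rfl⟩] at h0
  refine ⟨A i₀ i₀, left_ne_zero_of_mul_eq_one h0, Matrix.ext fun i k => ?_, Matrix.ext fun j l => ?_⟩
  · have := hij i k j₀ j₀
    rw [Matrix.smul_apply, Matrix.one_apply, smul_eq_mul]
    by_cases hik : i = k
    · rw [if_pos ⟨hik, rfl⟩] at this
      rw [if_pos hik, mul_one]
      exact mul_right_cancel₀ (right_ne_zero_of_mul_eq_one h0) (this.trans h0.symm)
    · rw [if_neg (fun e => hik e.1)] at this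
      rw [if_neg hik, mul_zero]
      exact (mul_eq_zero.1 this).resolve_right (right_ne_zero_of_mul_eq_one h0)
  · have := hij i₀ i₀ j l
    rw [Matrix.smul_apply, Matrix.one_apply, smul_eq_mul]
    by_cases hjl : j = l
    · rw [if_pos ⟨rfl, hjl⟩] at this
      rw [if_pos hjl, mul_one]
      exact eq_inv_of_mul_eq_one_right this
    · rw [if_neg (fun e => hjl e.2)] at this
      rw [if_neg hjl, mul_zero]
      exact (mul_eq_zero.1 this).resolve_left (left_ne_zero_of_mul_eq_one h0)

variable {ι : Type} [Fintype ι] [DecidableEq ι]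

/-- Membership in the stabiliser. -/
theorem mem_tensor_iff' (e : ι ≃ Fin a × Fin b) (P y : GL ι F) :
    y ∈ Cfsg.Geo.tensorProductSubgroup a b e P ↔
      ∃ (A : GL (Fin a) F) (B : GL (Fin b) F), ((P⁻¹ * y * P : GL ι F) : Matrix ι ι F) =
        ((A : Matrix (Fin a) (Fin a) F) ⊗ₖ (B : Matrix (Fin b) (Fin b) F)).submatrix e e := by
  constructor
  · rintro ⟨z, ⟨k, ⟨A, B, hk⟩, rfl⟩, rfl⟩
    refine ⟨A, B, ?_⟩
    simp only [MulEquiv.coe_toMonoidHom, MulAut.conj_apply]
    rw [show P⁻¹ * (P * Cfsg.Geo.glReindex e.symm k * P⁻¹) * P = Cfsg.Geo.glReindex e.symm k by group]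
    show Matrix.reindexAlgEquiv F F e.symm (k : Matrix _ _ F) = _
    rw [hk]
    rfl
  · rintro ⟨A, B, h⟩
    set kr : GL (Fin a × Fin b) F := (Cfsg.Geo.glReindex e.symm).symm (P⁻¹ * y * P) with hkr
    refine ⟨Cfsg.Geo.glReindex e.symm kr, ⟨kr, ⟨A, B, ?_⟩, rfl⟩, ?_⟩
    · have h1 : Matrix.reindexAlgEquiv F F e.symm (kr : Matrix _ _ F) =
          ((A : Matrix (Fin a) (Fin a) F) ⊗ₖ (B : Matrix (Fin b) (Fin b) F)).submatrix e e := by
        rw [← h]
        exact congrArg (fun g : GL ι F => (g : Matrix ι ι F))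
          ((Cfsg.Geo.glReindex e.symm).apply_symm_apply (P⁻¹ * y * P))
      apply (Matrix.reindexAlgEquiv F F e.symm).injective
      rw [h1]
      rfl
    · simp only [hkr, MulEquiv.coe_toMonoidHom, MulEquiv.apply_symm_apply, MulAut.conj_apply]
      group

/-- An element with a conjugate in the stabiliser is similar to a Kronecker product. -/
theorem similar_kron (e : ι ≃ Fin a × Fin b) (P x : GL ι F)
    (h : ∃ g : GL ι F, g⁻¹ * x * g ∈ Cfsg.Geo.tensorProductSubgroup a b e P) :
    ∃ (A : Matrix (Fin a) (Fin a) F) (B : Matrix (Fin b) (Fin b) F), IsUnit A.det ∧ IsUnit B.det ∧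
      (∀ r : ℕ, (x : Matrix ι ι F) ^ r = 1 → (A ^ r) ⊗ₖ (B ^ r) = 1) ∧
      (∀ s : F, ((x : Matrix ι ι F) - s • 1).rank = (A ⊗ₖ B - s • 1).rank) ∧
      ∀ {K : Type} [Field K] (f : F →+* K) (w : K),
        ((x : Matrix ι ι F).map f - w • 1).rank = ((A ⊗ₖ B).map f - w • 1).rank := by
  classical
  obtain ⟨g, hg⟩ := h
  obtain ⟨A, B, hAB⟩ := (mem_tensor_iff' e P _).1 hg
  set S : GL ι F := g * P with hS
  set M := ((A : Matrix (Fin a) (Fin a) F) ⊗ₖ (B : Matrix (Fin b) (Fin b) F)).submatrix e e with hM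
  have hx : (x : Matrix ι ι F) = (S : Matrix ι ι F) * M * (S : Matrix ι ι F)⁻¹ := by
    rw [← hAB, ← Matrix.coe_units_inv, ← Units.val_mul, ← Units.val_mul, hS]
    congr 1
    group
  refine ⟨(A : Matrix (Fin a) (Fin a) F), (B : Matrix (Fin b) (Fin b) F),
    (Matrix.isUnit_iff_isUnit_det _).1 A.isUnit, (Matrix.isUnit_iff_isUnit_det _).1 B.isUnit, ?_, ?_, ?_⟩
  · intro r hr
    have hpw : ∀ k : ℕ, ((P⁻¹ * (g⁻¹ * x * g) * P : GL ι F) ^ k : GL ι F).val =
        (((A : Matrix (Fin a) (Fin a) F) ^ k) ⊗ₖ ((B : Matrix (Fin b) (Fin b) F) ^ k)).submatrix e e := by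
      intro k
      induction k with
      | zero => simp [Matrix.one_kronecker_one]
      | succ k ih =>
        rw [pow_succ, Units.val_mul, ih, hAB, hM, Matrix.submatrix_mul_equiv,
          ← Matrix.mul_kronecker_mul, ← pow_succ, ← pow_succ]
    have hxr : x ^ r = 1 := Units.ext (by rw [Units.val_pow_eq_pow_val]; exact hr)
    have h1 := hpw r
    rw [show P⁻¹ * (g⁻¹ * x * g) * P = S⁻¹ * x * S⁻¹⁻¹ by rw [hS]; group, conj_pow, hxr, mul_one,
      mul_inv_cancel, Units.val_one] at h1
    ext i j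
    have h2 := congrFun (congrFun h1.symm (e.symm i)) (e.symm j)
    simpa [Matrix.one_apply, e.symm.injective.eq_iff] using h2
  · intro s
    have hSu : IsUnit (S : Matrix ι ι F).det := (Matrix.isUnit_iff_isUnit_det _).1 S.isUnit
    rw [hx, rank_conj hSu]
    have e1 : M - s • 1 = ((A : Matrix (Fin a) (Fin a) F) ⊗ₖ
        (B : Matrix (Fin b) (Fin b) F) - s • 1).submatrix e e := by
      ext i j
      simp [hM, Matrix.one_apply, e.injective.eq_iff]
    rw [e1, Matrix.rank_submatrix]
  · intro K _ f w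
    have hSu : IsUnit (S : Matrix ι ι F).det := (Matrix.isUnit_iff_isUnit_det _).1 S.isUnit
    have hS'u : IsUnit ((S : Matrix ι ι F).map f).det := by
      show IsUnit (f.mapMatrix (S : Matrix ι ι F)).det
      rw [← RingHom.map_det]; exact hSu.map f
    have hinv : ((S : Matrix ι ι F)⁻¹).map f = ((S : Matrix ι ι F).map f)⁻¹ := by
      refine (Matrix.inv_eq_right_inv ?_).symm
      rw [← Matrix.map_mul, Matrix.mul_nonsing_inv _ hSu]
      simp
    rw [hx, Matrix.map_mul, Matrix.map_mul, hinv, rank_conj hS'u]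
    have e1 : M.map f - w • 1 = (((A : Matrix (Fin a) (Fin a) F) ⊗ₖ
        (B : Matrix (Fin b) (Fin b) F)).map f - w • 1).submatrix e e := by
      ext i j
      simp [hM, Matrix.one_apply, e.injective.eq_iff]
    rw [e1, Matrix.rank_submatrix]

theorem map_id_matrix {m : Type*} (M : Matrix m m F) : M.map (RingHom.id F) = M := rfl

end Cfsg.Agent.Lib.SpTensorDerange
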