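import Mathlib
import Cfsg.Agent.Lib.SpTensorDerange.Kron
import Cfsg.Prelude.Def_ClassicalGeometry

/-!
# Simple witnesses in the symplectic group
-/

set_option autoImplicit false

namespace Cfsg.Agent.Lib.SpTensorDerange

open Matrix
open scoped Kronecker

variable {F : Type*} [Field F] {d a b : ℕ}

theorem sympForm_mulVec (M : Matrix (Fin d ⊕ Fin d) (Fin d ⊕ Fin d) F) (u v : Fin d ⊕ Fin d → F) :
    Cfsg.sympForm d F (M *ᵥ u) (M *ᵥ v) = u ⬝ᵥ ((Mᵀ * Matrix.J (Fin d) F * M) *ᵥ v) := by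
  rw [Cfsg.sympForm, ← Matrix.vecMul_transpose, ← Matrix.dotProduct_mulVec, Matrix.mulVec_mulVec,
    Matrix.mulVec_mulVec, Matrix.mul_assoc]

theorem mem_spGL_iff_mem (x : GL (Fin d ⊕ Fin d) F) :
    x ∈ Cfsg.spGL d F ↔
      (x : Matrix (Fin d ⊕ Fin d) (Fin d ⊕ Fin d) F) ∈ Matrix.symplecticGroup (Fin d) F := by
  rw [SymplecticGroup.mem_iff']
  constructor
  · intro h
    ext i j
    have := h (Pi.single i 1) (Pi.single j 1)
    have h' : Cfsg.sympForm d F ((x : Matrix _ _ F) *ᵥ Pi.single i 1) ((x : Matrix _ _ F) *ᵥ Pi.single j 1) =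
        Cfsg.sympForm d F (Pi.single i 1) (Pi.single j 1) := this
    rw [sympForm_mulVec] at h'
    simp only [Cfsg.sympForm, Matrix.mulVec_single_one, single_one_dotProduct, Matrix.col_apply] at h'
    exact h'
  · intro h u v
    show Cfsg.sympForm d F ((x : Matrix _ _ F) *ᵥ u) ((x : Matrix _ _ F) *ᵥ v) = Cfsg.sympForm d F u v
    rw [sympForm_mulVec, h]
    rfl

/-- The symplectic group matrix as an element of `spGL`. -/
noncomputable def spUnit {X : Matrix (Fin d ⊕ Fin d) (Fin d ⊕ Fin d) F}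
    (hX : X ∈ Matrix.symplecticGroup (Fin d) F) : GL (Fin d ⊕ Fin d) F :=
  GeneralLinearGroup.mkOfDetNeZero X (by rw [SymplecticGroup.det_eq_one hX]; exact one_ne_zero)

theorem spUnit_mem {X : Matrix (Fin d ⊕ Fin d) (Fin d ⊕ Fin d) F}
    (hX : X ∈ Matrix.symplecticGroup (Fin d) F) : spUnit hX ∈ Cfsg.spGL d F :=
  (mem_spGL_iff_mem _).2 hX

/-- Every element of order `r` modulo scalars fixes a point. -/
def AllFix (e : (Fin d ⊕ Fin d) ≃ Fin a × Fin b) (P : GL (Fin d ⊕ Fin d) F) (r : ℕ) : Prop :=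
  ∀ x ∈ Cfsg.spGL d F,
    (∃ z : F, ((x ^ r : GL (Fin d ⊕ Fin d) F) : Matrix (Fin d ⊕ Fin d) (Fin d ⊕ Fin d) F) =
        z • (1 : Matrix (Fin d ⊕ Fin d) (Fin d ⊕ Fin d) F)) →
      (∀ z : F, (x : Matrix (Fin d ⊕ Fin d) (Fin d ⊕ Fin d) F) ≠
        z • (1 : Matrix (Fin d ⊕ Fin d) (Fin d ⊕ Fin d) F)) →
      ∃ g ∈ Cfsg.spGL d F, g⁻¹ * x * g ∈ Cfsg.Geo.tensorProductSubgroup a b e P

variable (e : (Fin d ⊕ Fin d) ≃ Fin a × Fin b) (P : GL (Fin d ⊕ Fin d) F) {r : ℕ}

theorem card_eq_mul (e' : (Fin d ⊕ Fin d) ≃ Fin a × Fin b) : d + d = a * b := by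
  simpa using Fintype.card_congr e'

/-- An element of small displacement one of whose ranks is no multiple of `a`. -/
theorem not_allFix_small {X : Matrix (Fin d ⊕ Fin d) (Fin d ⊕ Fin d) F}
    (hX : X ∈ Matrix.symplecticGroup (Fin d) F) (hXr : X ^ r = 1) (s : F) (hs : (X - s • 1).rank < b)
    (w : F) (hnd : ¬ a ∣ (X - w • 1).rank) : ¬ AllFix e P r := by
  intro h
  have hab := card_eq_mul e
  obtain ⟨g, -, hg⟩ := h (spUnit hX) (spUnit_mem hX)
    ⟨1, by rw [Units.val_pow_eq_pow_val, one_smul]; exact hXr⟩ (fun c hc => hnd (by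
      rw [show X = c • 1 from hc, ← sub_smul]
      by_cases hcw : c - w = 0
      · rw [hcw, zero_smul, Matrix.rank_zero]
        exact dvd_zero a
      · rw [Matrix.rank_of_isUnit _ (by
          rw [Matrix.isUnit_iff_isUnit_det, Matrix.det_smul, Matrix.det_one, mul_one]
          exact (isUnit_iff_ne_zero.2 hcw).pow _), Fintype.card_sum, Fintype.card_fin]
        exact ⟨b, hab⟩))
  obtain ⟨A, B, -, hB, -, hrk, -⟩ := similar_kron e P (spUnit hX) ⟨g, hg⟩
  by_cases hA : ∃ c : F, A = c • 1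
  · obtain ⟨c, rfl⟩ := hA
    refine hnd ?_
    have h1 := dvd_rank_of_scalar_left (a := a) (RingHom.id F) c B w
    rw [map_id_matrix, ← hrk] at h1
    exact h1
  · push Not at hA
    have h1 := TensorDerange.rank_kron_sub_ge hA hB s
    rw [← hrk] at h1
    exact absurd h1 (not_le.2 hs)

theorem diag_mem_sp (v : Fin d → F) (hv : ∀ i, v i ≠ 0) :
    Matrix.diagonal (Sum.elim v fun i => (v i)⁻¹) ∈ Matrix.symplecticGroup (Fin d) F := by
  rw [SymplecticGroup.mem_iff', Matrix.diagonal_transpose, ← Matrix.fromBlocks_diagonal, Matrix.J,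
    Matrix.fromBlocks_multiply, Matrix.fromBlocks_multiply]
  simp [Matrix.diagonal_mul_diagonal, hv]
  ext i j
  by_cases h : i = j <;> simp [h]

open scoped Classical in
theorem rank_diag_sub {ι : Type*} [Fintype ι] [DecidableEq ι] (v : ι → F) (s : F) :
    (Matrix.diagonal v - s • 1).rank = (Finset.univ.filter fun i => v i ≠ s).card := by
  have : Matrix.diagonal v - s • 1 = Matrix.diagonal fun i => v i - s := by
    ext i j
    by_cases h : i = j <;> simp [h]
  rw [this, Matrix.rank_diagonal, Fintype.card_subtype]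
  congr 1
  ext i
  simp [sub_ne_zero]

/-- A diagonal witness moving one hyperbolic pair. -/
theorem pair_ranks (hd : 0 < d) {u : F} (hu : u ≠ 0) (hu1 : u ≠ 1) (w : F) :
    let X := Matrix.diagonal (Sum.elim (fun i : Fin d => if i = ⟨0, hd⟩ then u else 1)
      fun i : Fin d => (if i = ⟨0, hd⟩ then u else 1)⁻¹)
    (X - (1 : F) • 1).rank = 2 ∧ (w = u → u⁻¹ ≠ u → (X - w • 1).rank = d + d - 1) := by
  classical
  intro X
  set i₀ : Fin d := ⟨0, hd⟩
  constructor
  · rw [rank_diag_sub]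
    have : (Finset.univ.filter fun i => Sum.elim (fun i : Fin d => if i = i₀ then u else 1)
        (fun i : Fin d => (if i = i₀ then u else 1)⁻¹) i ≠ 1) = {Sum.inl i₀, Sum.inr i₀} := by
      ext (i | i) <;> by_cases hi : i = i₀ <;> simp [hi, hu1]
    rw [this, Finset.card_pair (by simp)]
  · rintro rfl hne
    rw [rank_diag_sub]
    have : (Finset.univ.filter fun i => Sum.elim (fun i : Fin d => if i = i₀ then w else 1)
        (fun i : Fin d => (if i = i₀ then w else 1)⁻¹) i ≠ w) = Finset.univ.erase (Sum.inl i₀) := by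
      ext (i | i) <;> by_cases hi : i = i₀ <;> simp [hi, Ne.symm hu1, hne]
    rw [this, Finset.card_erase_of_mem (Finset.mem_univ _), Finset.card_univ, Fintype.card_sum,
      Fintype.card_fin]

/-- The characteristic. -/
theorem not_allFix_char (hd : 0 < d) (ha : 2 ≤ a) (hb : 2 ≤ b) [CharP F r] : ¬ AllFix e P r := by
  classical
  set i₀ : Fin d := ⟨0, hd⟩
  set X := transvection (Sum.inl i₀ : Fin d ⊕ Fin d) (Sum.inr i₀) (1 : F)
  have hne : (Sum.inl i₀ : Fin d ⊕ Fin d) ≠ Sum.inr i₀ := by simp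
  have hX : X ∈ Matrix.symplecticGroup (Fin d) F := by
    have he : X = Matrix.fromBlocks 1 (Matrix.single i₀ i₀ 1) 0 1 := by
      ext (i | i) (j | j) <;> simp [X, transvection, Matrix.single_apply, Matrix.one_apply]
    rw [SymplecticGroup.mem_iff', he, Matrix.fromBlocks_transpose, Matrix.J,
      Matrix.fromBlocks_multiply, Matrix.fromBlocks_multiply]
    simp
  have hp : ∀ k : ℕ, X ^ k = transvection (Sum.inl i₀) (Sum.inr i₀) (k : F) := by
    intro k
    induction k with
    | zero => simp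
    | succ k ih => rw [pow_succ, ih, transvection_mul_transvection_same _ _ hne, Nat.cast_succ]
  have hsub : X - (1 : F) • 1 = Matrix.single (Sum.inl i₀) (Sum.inr i₀) (1 : F) := by
    simp [X, transvection]
  have hrk : (X - (1 : F) • 1).rank = 1 := by
    rw [hsub]
    refine le_antisymm ?_ ?_
    · rw [show Matrix.single (Sum.inl i₀ : Fin d ⊕ Fin d) (Sum.inr i₀) (1 : F) =
          vecMulVec (Pi.single (Sum.inl i₀) 1) (Pi.single (Sum.inr i₀) 1) from
        (Matrix.single_eq_single_vecMulVec_single _ _)]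
      exact Matrix.rank_vecMulVec_le _ _
    · rw [Nat.one_le_iff_ne_zero]
      intro h
      rw [Matrix.rank, Submodule.finrank_eq_zero, LinearMap.range_eq_bot] at h
      have := congrFun (LinearMap.congr_fun h (Pi.single (Sum.inr i₀) 1)) (Sum.inl i₀)
      simp at this
  refine not_allFix_small e P hX ?_ 1 (by rw [hrk]; omega) 1 (by rw [hrk, Nat.dvd_one]; omega)
  rw [hp, CharP.cast_eq_zero, transvection_zero]

/-- `r = 2` and `a ≥ 3`. -/
theorem not_allFix_two (hd : 0 < d) (ha : 3 ≤ a) (hb : 3 ≤ b) (h2 : (2 : F) ≠ 0) :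
    ¬ AllFix e P 2 := by
  classical
  have hn1 : (-1 : F) ≠ 1 := fun h => h2 (by linear_combination -h)
  set v : Fin d → F := fun i => if i = ⟨0, hd⟩ then -1 else 1
  have hv : ∀ i, v i ≠ 0 := fun i => by simp only [v]; split <;> simp
  have hr := (pair_ranks hd (u := (-1 : F)) (by simp) hn1 0).1
  refine not_allFix_small e P (diag_mem_sp v hv) ?_ 1 (by rw [hr]; omega) 1 (by
    rw [hr]; exact fun h => by have := Nat.le_of_dvd two_pos h; omega)
  rw [Matrix.diagonal_pow, ← Matrix.diagonal_one]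
  congr 1
  funext i
  rcases i with i | i <;> by_cases hi : i = ⟨0, hd⟩ <;> simp [v, hi]

/-- Odd `r` dividing `q - 1`. -/
theorem not_allFix_split [Fintype F] (hd : 0 < d) (ha : Even a) (hb : 3 ≤ b) (hr : r.Prime) (hr2 : r ≠ 2)
    (hq : r ∣ Fintype.card F - 1) : ¬ AllFix e P r := by
  classical
  haveI : Fact r.Prime := ⟨hr⟩
  obtain ⟨u, hu⟩ := exists_prime_orderOf_dvd_card r (G := Fˣ) (by rwa [Fintype.card_units])
  have hu1 : (u : F) ≠ 1 := fun h => by
    rw [show u = 1 from Units.ext h, orderOf_one] at hu; exact hr.one_lt.ne hu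
  have hur : (u : F) ^ r = 1 := by
    rw [← Units.val_pow_eq_pow_val, ← hu, pow_orderOf_eq_one, Units.val_one]
  have hne : (u : F)⁻¹ ≠ u := fun h => by
    have h1 : u ^ 2 = 1 := Units.ext (by
      rw [Units.val_pow_eq_pow_val, sq, Units.val_one]
      nth_rewrite 1 [← h]
      exact inv_mul_cancel₀ u.ne_zero)
    have := orderOf_dvd_of_pow_eq_one h1
    rw [hu] at this
    exact hr2 ((Nat.prime_dvd_prime_iff_eq hr Nat.prime_two).1 this)
  set v : Fin d → F := fun i => if i = ⟨0, hd⟩ then (u : F) else 1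
  have hv : ∀ i, v i ≠ 0 := fun i => by simp only [v]; split <;> simp
  have hr' := pair_ranks hd u.ne_zero hu1 (u : F)
  refine not_allFix_small e P (diag_mem_sp v hv) ?_ 1 (by rw [hr'.1]; omega) (u : F) (by
    rw [hr'.2 rfl hne]
    intro h
    obtain ⟨k, hk⟩ := (even_iff_two_dvd.1 ha).trans h
    omega)
  rw [Matrix.diagonal_pow, ← Matrix.diagonal_one]
  congr 1
  funext i
  rcases i with i | i <;> by_cases hi : i = ⟨0, hd⟩ <;> simp [v, hi, hur]

end Cfsg.Agent.Lib.SpTensorDerange
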