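import Mathlib
import Cfsg.Agent.Lib.SpTensorDerange.Basic
import Cfsg.Agent.Lib.Semisimple.SympModel
import Cfsg.Agent.Lib.Classical.Symplectic

/-!
# Witnesses with a simple eigenvalue outside the field
-/

set_option autoImplicit false

namespace Cfsg.Agent.Lib.SpTensorDerange

open Matrix Polynomial
open scoped Kronecker
open Cfsg.Agent.Lib.Semisimple

/-- For a semisimple matrix ranks are read off the characteristic polynomial. -/
theorem rank_sub_eq {K : Type*} [Field K] {ι : Type*} [Fintype ι] [DecidableEq ι] (M : Matrix ι ι K)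
    {o : ℕ} (ho : (o : K) ≠ 0) (hM : M ^ o = 1) (c : K) :
    (M - c • 1).rank + M.charpoly.rootMultiplicity c = Fintype.card ι := by
  classical
  obtain ⟨k, g, hfg, hg, hk⟩ := finrank_ker_pow (Matrix.toLin' M) (X ^ o - 1) (squarefree_pow_sub_one ho)
    (by
      rw [map_sub, map_pow, aeval_X, map_one, ← Matrix.toLin'_pow, hM, Matrix.toLin'_one]
      exact sub_self _) (X - C c) (irreducible_X_sub_C c) (monic_X_sub_C c)
  have h1 := hk 1 le_rfl
  rw [pow_one, natDegree_X_sub_C, mul_one, map_sub, aeval_X, aeval_C] at h1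
  have e1 : Matrix.toLin' M - algebraMap K (Module.End K (ι → K)) c = (M - c • 1).mulVecLin := by
    refine LinearMap.ext fun v => ?_
    simp [Module.algebraMap_end_apply, Matrix.sub_mulVec, Matrix.smul_mulVec]
  rw [e1] at h1
  rw [Matrix.charpoly_toLin'] at hfg
  have hg0 : g ≠ 0 := fun h => M.charpoly_monic.ne_zero (by rw [hfg, h, mul_zero])
  have hmul : M.charpoly.rootMultiplicity c = k := by
    rw [hfg, rootMultiplicity_mul (mul_ne_zero (pow_ne_zero _ (X_sub_C_ne_zero c)) hg0),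
      rootMultiplicity_X_sub_C_pow, rootMultiplicity_eq_zero (fun h => hg (dvd_iff_isRoot.2 h)), add_zero]
  have h2 := (M - c • 1).mulVecLin.finrank_range_add_finrank_ker
  rw [Module.finrank_fintype_fun_eq_card, h1] at h2
  rw [hmul, ← h2]
  rfl

variable {F : Type*} [Field F] [Fintype F]

theorem aeval_pow_card_pow {K : Type*} [Field K] [Algebra F K] (g : F[X]) (x : K) (k : ℕ) :
    aeval (x ^ Fintype.card F ^ k) g = aeval x g ^ Fintype.card F ^ k := by
  induction k with
  | zero => simp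
  | succ k ih =>
    rw [pow_succ, pow_mul, pow_mul, ← expand_aeval (Fintype.card F) g, FiniteField.expand_card, map_pow, ih]

theorem dual_pow_sub_one (r : ℕ) (hr : 1 ≤ r) :
    dual (RingHom.id F) ((X : F[X]) ^ r - 1) = X ^ r - 1 := by
  classical
  have hd : ((X : F[X]) ^ r - 1).natDegree = r := by
    rw [← C_1, natDegree_X_pow_sub_C]
  have h0 : ((X : F[X]) ^ r - 1).coeff 0 = -1 := by
    rw [coeff_sub, coeff_X_pow, if_neg (by omega), coeff_one_zero, zero_sub]
  ext i
  rcases Nat.lt_or_ge r i with hi | hi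
  · rw [coeff_eq_zero_of_natDegree_lt (p := (X : F[X]) ^ r - 1) (by rwa [hd]),
      coeff_eq_zero_of_natDegree_lt (by rw [dual_natDegree _ (by rw [h0]; simp), hd]; exact hi)]
  · rw [dual_coeff _ i (by rwa [hd]), hd, h0, RingHom.id_apply, RingHom.id_apply]
    simp only [coeff_sub, coeff_X_pow, coeff_one]
    rcases Nat.eq_zero_or_pos i with rfl | hi0
    · simp [show r ≠ 0 by omega, show (0 : ℕ) ≠ r by omega]
    rcases Nat.lt_or_ge i r with hir | hir
    · simp [show r - i ≠ r by omega, show r - i ≠ 0 by omega, show i ≠ r by omega, show i ≠ 0 by omega]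
    · obtain rfl : i = r := le_antisymm hi hir
      simp [show i ≠ 0 by omega, show (0 : ℕ) ≠ i by omega]

/-- A symplectic element of order `r` with a simple eigenvalue, when `r` does not divide `q - 1`. -/
theorem exists_sp_witness {p : ℕ} [Fact p.Prime] [CharP F p] {d r : ℕ} (hr : r.Prime) (hrp : r ≠ p)
    (hr1 : ¬ r ∣ Fintype.card F - 1) (hdvd : r ∣ Nat.card (Matrix.symplecticGroup (Fin d) F)) :
    ∃ (m : ℕ) (A : Matrix (Fin d ⊕ Fin d) (Fin d ⊕ Fin d) F), A ∈ Matrix.symplecticGroup (Fin d) F ∧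
      2 ≤ m ∧ (∀ j, 1 ≤ j → r ∣ Fintype.card F ^ j - 1 → m ≤ j) ∧ A ^ r = 1 ∧
      (A - (1 : F) • 1).rank ≤ 2 * m ∧ (m = 2 → (A - (1 : F) • 1).rank ≤ 2) ∧
      ∃ (E : Type) (_ : Field E) (f : F →+* E) (w : E), (A.map f - w • 1).rank = d + d - 1 := by
  classical
  have hrcop : r.Coprime p := (Nat.coprime_primes hr Fact.out).2 hrp
  have hrF : (r : F) ≠ 0 := natCast_ne_zero_of_coprime (p := p) hrcop
  obtain ⟨nq, -, hnq⟩ := FiniteField.card F p
  have hrq : ¬ r ∣ Fintype.card F := fun h => hrp ((Nat.prime_dvd_prime_iff_eq hr Fact.out).1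
    (hr.dvd_of_dvd_pow (hnq ▸ h)))
  -- the least exponent
  rw [Classical.natCard_symplecticGroup, Nat.card_eq_fintype_card] at hdvd
  obtain ⟨i, hid, hi⟩ : ∃ i < d, r ∣ Fintype.card F ^ (2 * (i + 1)) - 1 := by
    obtain ⟨i, hi, h⟩ := (Nat.Prime.prime hr).exists_mem_finset_dvd
      ((hr.dvd_mul.1 hdvd).resolve_left fun h => hrq (hr.dvd_of_dvd_pow h))
    exact ⟨i, Finset.mem_range.1 hi, h⟩
  have hex : ∃ j, 1 ≤ j ∧ r ∣ Fintype.card F ^ j - 1 := ⟨2 * (i + 1), by omega, hi⟩
  set m := Nat.find hex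
  obtain ⟨hm1, hmr⟩ := Nat.find_spec hex
  have hmin : ∀ j, 1 ≤ j → r ∣ Fintype.card F ^ j - 1 → m ≤ j := fun j hj h => Nat.find_min' hex ⟨hj, h⟩
  have hm2 : 2 ≤ m := by
    rcases Nat.lt_or_ge m 2 with h | h
    · exact absurd (by rw [show Nat.find hex = 1 by omega, pow_one] at hmr; exact hmr) hr1
    · exact h
  obtain ⟨E, _, _, pb, hdim, hgr, hg1⟩ := TensorDerange.exists_root_of_unity hr hm1 hmr
  haveI := pb.finite
  haveI : Finite E := Module.finite_of_finite F
  haveI : Fintype E := Fintype.ofFinite E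
  set w := pb.gen with hw
  have hw0 : w ≠ 0 := fun h => by rw [h, zero_pow hr.ne_zero] at hgr; exact zero_ne_one hgr
  have hmdim : pb.dim = m := by
    refine le_antisymm hdim (hmin _ pb.dim_pos ?_)
    have h1 : orderOf (Units.mk0 w hw0) = r := by
      haveI : Fact r.Prime := ⟨hr⟩
      refine orderOf_eq_prime (Units.ext ?_) fun h => hg1 ?_
      · rw [Units.val_pow_eq_pow_val]; exact hgr
      · exact congrArg Units.val h
    have h2 := orderOf_dvd_card (x := Units.mk0 w hw0)
    rwa [h1, Fintype.card_units, Module.card_eq_pow_finrank (K := F) (V := E), pb.finrank] at h2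
  set g := minpoly F w with hg
  have hgm : g.Monic := minpoly.monic (IsIntegral.of_finite F w)
  have hgirr : Irreducible g := minpoly.irreducible (IsIntegral.of_finite F w)
  have hgdeg : g.natDegree = m := by rw [hg, hw, PowerBasis.natDegree_minpoly, hmdim]
  -- the norm is one
  have hg0 : g.coeff 0 = (-1) ^ m := by
    set M := Algebra.leftMulMatrix pb.basis pb.gen
    have hMr : M ^ r = 1 := by rw [← map_pow, hgr, map_one]
    have h1 : M.det ^ r = 1 := by rw [← Matrix.det_pow, hMr, Matrix.det_one]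
    have h0 : M.det ≠ 0 := fun e => by simp [e, hr.ne_zero] at h1
    have h2 := FiniteField.pow_card_sub_one_eq_one M.det h0
    have h3 : Nat.Coprime r (Fintype.card F - 1) := (Nat.Prime.coprime_iff_not_dvd hr).2 hr1
    have h4 := pow_gcd_eq_one.2 ⟨h1, h2⟩
    rw [h3.gcd_eq_one, pow_one, Matrix.det_eq_sign_charpoly_coeff, charpoly_leftMulMatrix,
      Fintype.card_fin, hmdim, ← hw, ← hg] at h4
    rcases neg_one_pow_eq_or F m with hs | hs <;> rw [hs] at h4 ⊢
    · rwa [one_mul] at h4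
    · rw [neg_one_mul] at h4
      exact (neg_neg (g.coeff 0)).symm.trans (by rw [h4])
  have hg0' : g.coeff 0 ≠ 0 := by rw [hg0]; exact pow_ne_zero _ (by simp)
  have hgdvd : g ∣ X ^ r - 1 := minpoly.dvd F w (by
    rw [map_sub, map_pow, aeval_X, map_one, hgr, sub_self])
  set g' := dual (RingHom.id F) g with hg'
  have hg'm : g'.Monic := dual_monic _ hg0'
  have hg'deg : g'.natDegree = m := by rw [hg', dual_natDegree _ hg0', hgdeg]
  have hg'dvd : g' ∣ X ^ r - 1 := by
    obtain ⟨c, hc⟩ := hgdvd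
    refine ⟨dual (RingHom.id F) c, ?_⟩
    rw [hg', ← dual_mul, ← hc, dual_pow_sub_one r hr.one_lt.le]
  have hgroot : aeval w g = 0 := minpoly.aeval F w
  have hg1' : ¬ X - C (1 : F) ∣ g := fun h =>
    hgirr.not_isRoot_of_natDegree_ne_one (by omega) (dvd_iff_isRoot.1 h)
  have hg'1 : ¬ X - C (1 : F) ∣ g' := by
    rintro ⟨c, hc⟩
    refine hg1' ⟨dual (RingHom.id F) c, ?_⟩
    have h := congrArg (dual (RingHom.id F)) hc
    rwa [hg', dual_dual _ (fun _ => rfl) hgm hg0', dual_mul, dual_X_sub_C_self (mul_one 1)] at h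
  -- the self dual factor
  obtain ⟨f0, hf0m, hf0d, hf0c, hf0dual, hf0dvd, hf0root, hf0one, hf0deg, hf02⟩ :
      ∃ f0 : F[X], f0.Monic ∧ f0.natDegree ≤ d + d ∧ f0.coeff 0 = (-1) ^ f0.natDegree ∧
        dual (RingHom.id F) f0 = f0 ∧ f0 ∣ X ^ r - 1 ∧ aeval w f0 = 0 ∧ ¬ X - C (1 : F) ∣ f0 ∧
        f0.natDegree ≤ 2 * m ∧ (m = 2 → f0.natDegree ≤ 2) := by
    by_cases hsd : g' = g
    · exact ⟨g, hgm, by rw [hgdeg]; exact (hmin _ (by omega) hi).trans (by omega), by rw [hg0, hgdeg],
        by rw [← hg']; exact hsd, hgdvd, hgroot, hg1', by omega, by omega⟩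
    · have hne2 : m ≠ 2 := fun h2 => hsd (by
        ext k
        rcases Nat.lt_or_ge g.natDegree k with hk | hk
        · rw [coeff_eq_zero_of_natDegree_lt hk, coeff_eq_zero_of_natDegree_lt (by omega)]
        · rw [hg', dual_coeff _ k hk, RingHom.id_apply, RingHom.id_apply, hg0, h2, hgdeg, h2]
          have hk2 : k ≤ 2 := by omega
          have hc2 : g.coeff 2 = 1 := by
            rw [show (2 : ℕ) = g.natDegree by omega]; exact hgm.coeff_natDegree
          interval_cases k <;> simp [hg0, h2, hc2])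
      have hmd : m ≤ d := by
        have hsplit : Fintype.card F ^ (2 * (i + 1)) - 1 =
            (Fintype.card F ^ (i + 1) + 1) * (Fintype.card F ^ (i + 1) - 1) := by
          rw [← Nat.sq_sub_sq, one_pow, ← pow_mul, mul_comm 2]
        rw [hsplit] at hi
        rcases hr.dvd_mul.1 hi with h | h
        · exfalso
          obtain ⟨c, hc⟩ := h
          have hwQ : w ^ Fintype.card F ^ (i + 1) = w⁻¹ := by
            refine eq_inv_of_mul_eq_one_left ?_
            rw [← pow_succ, hc, pow_mul, hgr, one_pow]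
          have hinv : aeval w⁻¹ g = 0 := by
            rw [← hwQ, aeval_pow_card_pow, hgroot, zero_pow]
            exact pow_ne_zero _ Fintype.card_ne_zero
          haveI : Invertible w⁻¹ := invertibleOfNonzero (inv_ne_zero hw0)
          have hrev : aeval w g' = 0 := by
            have h1 : eval₂ (algebraMap F E) (⅟ w⁻¹) g.reverse = 0 :=
              (eval₂_reverse_eq_zero_iff _ _ _).2 hinv
            rw [invOf_eq_inv, inv_inv] at h1
            rw [hg', dual, Polynomial.map_id, map_mul, aeval_def (R := F) w g.reverse, h1, mul_zero]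
          exact hsd (eq_of_monic_of_dvd_of_natDegree_le hgm hg'm (minpoly.dvd F w hrev) (by omega))
        · exact (hmin _ (by omega) h).trans hid
      have hcop : IsCoprime g g' := hgirr.coprime_iff_not_dvd.2 fun h =>
        hsd (eq_of_monic_of_dvd_of_natDegree_le hgm hg'm h (by omega))
      refine ⟨g * g', hgm.mul hg'm, ?_, ?_, ?_, hcop.mul_dvd hgdvd hg'dvd, by rw [map_mul, hgroot, zero_mul],
        fun h => ?_, ?_, fun h => absurd h hne2⟩
      · rw [hgm.natDegree_mul hg'm]; omega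
      · rw [mul_coeff_zero, hg', dual_coeff_zero _ hgm, RingHom.id_apply, mul_inv_cancel₀ hg0',
          hgm.natDegree_mul (dual_monic _ hg0'), ← hg', hgdeg, hg'deg, ← two_mul, pow_mul, neg_one_sq, one_pow]
      · rw [dual_mul, hg', dual_dual _ (fun _ => rfl) hgm hg0', mul_comm]
      · exact ((irreducible_X_sub_C (1 : F)).prime.dvd_or_dvd h).elim hg1' hg'1
      · rw [hgm.natDegree_mul hg'm]; omega
  -- the matrix
  set k := d + d - f0.natDegree with hk
  set f := f0 * (X - C (1 : F)) ^ k with hf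
  have hm : (X - C (1 : F)).Monic := monic_X_sub_C 1
  obtain ⟨A, hA, hAc, o, ho, hAo⟩ := exists_sp_model (p := p) d f (hf0m.mul (hm.pow k))
    (by rw [hf, hf0m.natDegree_mul (hm.pow k), natDegree_pow, natDegree_X_sub_C]; omega)
    (by
      rw [hf, mul_coeff_zero, hf0c, coeff_zero_eq_eval_zero, eval_pow, eval_sub, eval_X, eval_C, zero_sub,
        ← pow_add, show f0.natDegree + k = 2 * d by omega, pow_mul, neg_one_sq, one_pow])
    (by rw [hf, dual_mul, hf0dual, dual_X_sub_C_pow (mul_one 1)])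
  have hAr : A ^ r = 1 := by
    have hX1 : X - C (1 : F) ∣ X ^ r - 1 := by
      rw [dvd_iff_isRoot]; simp
    have h1 : minpoly F A ∣ (X ^ r - 1) ^ (1 + k) := by
      refine A.minpoly_dvd_charpoly.trans ?_
      rw [hAc, hf, pow_add, pow_one]
      exact mul_dvd_mul hf0dvd (pow_dvd_pow_of_dvd hX1 k)
    have h2 : Squarefree (minpoly F A) :=
      (squarefree_pow_sub_one (natCast_ne_zero_of_coprime (p := p) ho)).squarefree_of_dvd
        (minpoly.dvd F A (by rw [map_sub, map_pow, aeval_X, map_one, hAo, sub_self]))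
    obtain ⟨c, hc⟩ := (h2.dvd_pow_iff_dvd (by omega)).1 h1
    have h3 := congrArg (aeval A) hc
    rw [map_mul, minpoly.aeval, zero_mul, map_sub, map_pow, aeval_X, map_one, sub_eq_zero] at h3
    exact h3
  refine ⟨m, A, hA, hm2, hmin, hAr, ?_⟩
  have hrk := rank_sub_eq A hrF hAr 1
  have hmult : k ≤ A.charpoly.rootMultiplicity 1 := by
    rw [le_rootMultiplicity_iff A.charpoly_monic.ne_zero, hAc, hf]
    exact dvd_mul_left _ _
  rw [Fintype.card_sum, Fintype.card_fin] at hrk
  refine ⟨by omega, fun h => by have := hf02 h; omega, E, inferInstance, algebraMap F E, w, ?_⟩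
  have hrE : (r : E) ≠ 0 := by
    rw [← map_natCast (algebraMap F E) r]
    exact (_root_.map_ne_zero _).2 hrF
  have hArE : (A.map (algebraMap F E)) ^ r = 1 := by
    show ((algebraMap F E).mapMatrix A) ^ r = 1
    rw [← map_pow, hAr, map_one]
  have h := rank_sub_eq (A.map (algebraMap F E)) hrE hArE w
  have hne : f0.map (algebraMap F E) ≠ 0 := (Polynomial.map_ne_zero_iff (algebraMap F E).injective).2 hf0m.ne_zero
  have hmw : (A.map (algebraMap F E)).charpoly.rootMultiplicity w = 1 := by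
    rw [Matrix.charpoly_map, hAc, hf, Polynomial.map_mul, Polynomial.map_pow, Polynomial.map_sub, map_X,
      map_C, map_one, rootMultiplicity_mul (mul_ne_zero hne (pow_ne_zero _ (X_sub_C_ne_zero _)))]
    have h1 : ((X - C (1 : E)) ^ k).rootMultiplicity w = 0 := rootMultiplicity_eq_zero (by
      rw [IsRoot, eval_pow, eval_sub, eval_X, eval_C]
      exact pow_ne_zero _ (sub_ne_zero.2 hg1))
    have h2 : 0 < (f0.map (algebraMap F E)).rootMultiplicity w := by
      rw [rootMultiplicity_pos hne, IsRoot, eval_map, ← aeval_def]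
      exact hf0root
    have h3 : (f0.map (algebraMap F E)).rootMultiplicity w ≤ 1 := by
      by_contra hlt
      push Not at hlt
      have hd2 : (X - C w) * (X - C w) ∣ f0.map (algebraMap F E) := by
        rw [← sq]
        exact (le_rootMultiplicity_iff hne).1 hlt
      have hsq : Squarefree (f0.map (algebraMap F E)) := by
        refine (squarefree_pow_sub_one hrE).squarefree_of_dvd ?_
        have := Polynomial.map_dvd (algebraMap F E) hf0dvd
        simpa using this
      exact (irreducible_X_sub_C w).not_isUnit (hsq _ hd2)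
    omega
  rw [hmw, Fintype.card_sum, Fintype.card_fin] at h
  omega

/-- Odd `r`, prime to the characteristic, not dividing `q - 1`. -/
theorem not_allFix_nonsplit {p : ℕ} [Fact p.Prime] [CharP F p] {d a b r : ℕ}
    (e : (Fin d ⊕ Fin d) ≃ Fin a × Fin b) (P : GL (Fin d ⊕ Fin d) F) (ha : Even a) (ha2 : 2 ≤ a) (hb : 3 ≤ b)
    (hr : r.Prime) (hrp : r ≠ p) (hr1 : ¬ r ∣ Fintype.card F - 1)
    (hdvd : r ∣ Nat.card (Matrix.symplecticGroup (Fin d) F)) : ¬ AllFix e P r := by
  classical
  obtain ⟨m, X, hX, hm2, hmin, hXr, hrk, hrk2, E, _, f, w, hw⟩ := exists_sp_witness hr hrp hr1 hdvd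
  intro h
  have hab := card_eq_mul e
  obtain ⟨g, -, hg⟩ := h (spUnit hX) (spUnit_mem hX)
    ⟨1, by rw [Units.val_pow_eq_pow_val, one_smul]; exact hXr⟩ (fun c hc => by
      rw [show X = c • 1 from hc] at hw
      have e1 : (c • (1 : Matrix (Fin d ⊕ Fin d) (Fin d ⊕ Fin d) F)).map f - w • 1 =
          (f c - w) • (1 : Matrix (Fin d ⊕ Fin d) (Fin d ⊕ Fin d) E) := by
        ext i j
        by_cases hij : i = j <;> simp [hij]
      rw [e1] at hw
      have h6 : 6 ≤ d + d := by rw [hab]; exact Nat.mul_le_mul ha2 hb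
      by_cases hcw : f c - w = 0
      · rw [hcw, zero_smul, Matrix.rank_zero] at hw
        omega
      · rw [Matrix.rank_of_isUnit _ (by
          rw [Matrix.isUnit_iff_isUnit_det, Matrix.det_smul, Matrix.det_one, mul_one]
          exact (isUnit_iff_ne_zero.2 hcw).pow _), Fintype.card_sum, Fintype.card_fin] at hw
        omega)
  obtain ⟨A, B, hA, hB, hpow, hrkF, hrkE⟩ := similar_kron e P (spUnit hX) ⟨g, hg⟩
  replace hrk : (A ⊗ₖ B - (1 : F) • 1).rank ≤ 2 * m := (hrkF 1).symm.trans_le hrk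
  replace hrk2 : m = 2 → (A ⊗ₖ B - (1 : F) • 1).rank ≤ 2 := fun h => (hrkF 1).symm.trans_le (hrk2 h)
  replace hw : ((A ⊗ₖ B).map f - w • 1).rank = d + d - 1 := (hrkE f w).symm.trans hw
  obtain ⟨c, hc0, hAc, hBc⟩ := scalars_of_kron_eq_one (by omega) (by omega) (hpow r hXr)
  -- normalise
  obtain ⟨t, ht⟩ : ∃ t : F, t ^ r = c := by
    have hbij : Function.Bijective (fun u : Fˣ => u ^ r) := (powCoprime (G := Fˣ) (n := r) (by
      rw [Nat.card_eq_fintype_card, Fintype.card_units]
      exact ((Nat.Prime.coprime_iff_not_dvd hr).2 hr1).symm)).bijective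
    obtain ⟨u, hu⟩ := hbij.2 (Units.mk0 c hc0)
    exact ⟨u, by rw [← Units.val_pow_eq_pow_val]; exact congrArg Units.val hu⟩
  have ht0 : t ≠ 0 := fun h0 => hc0 (by rw [← ht, h0, zero_pow hr.ne_zero])
  set A' := t⁻¹ • A
  set B' := t • B
  have hk : A' ⊗ₖ B' = A ⊗ₖ B := by
    rw [Matrix.smul_kronecker, Matrix.kronecker_smul, smul_smul, inv_mul_cancel₀ ht0, one_smul]
  have hA' : A' ^ r = 1 := by
    rw [_root_.smul_pow, hAc, smul_smul, inv_pow, ht, inv_mul_cancel₀ hc0, one_smul]
  have hB' : B' ^ r = 1 := by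
    rw [_root_.smul_pow, hBc, smul_smul, ht, mul_inv_cancel₀ hc0, one_smul]
  rw [← hk] at hrk hrk2 hw
  have hA1 : A' ≠ 1 := fun h1 => by
    have := dvd_rank_of_scalar_left (a := a) f 1 B' w
    rw [one_smul, ← h1, hw] at this
    obtain ⟨k, hk'⟩ := (even_iff_two_dvd.1 ha).trans this
    have : 6 ≤ d + d := by rw [hab]; exact Nat.mul_le_mul ha2 hb
    omega
  have hB1 : B' ≠ 1 := fun h1 => by
    have h3 := dvd_rank_of_scalar_right (b := b) f 1 A' w
    rw [one_smul, ← h1, hw] at h3
    have h4 : b ∣ d + d := ⟨a, by rw [hab, mul_comm]⟩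
    have h5 := Nat.dvd_sub h4 h3
    have : 6 ≤ d + d := by rw [hab]; exact Nat.mul_le_mul ha2 hb
    rw [show d + d - (d + d - 1) = 1 by omega, Nat.dvd_one] at h5
    omega
  have hdet : ∀ {n : ℕ} (M : Matrix (Fin n) (Fin n) F), M ^ r = 1 → IsUnit M.det := fun M hM =>
    IsUnit.of_pow_eq_one (by rw [← Matrix.det_pow, hM, Matrix.det_one]) hr.ne_zero
  have hrq : ¬ r ∣ Fintype.card F := by
    obtain ⟨nq, -, hnq⟩ := FiniteField.card F p
    exact fun h => hrp ((Nat.prime_dvd_prime_iff_eq hr Fact.out).1 (hr.dvd_of_dvd_pow (hnq ▸ h)))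
  obtain ⟨hma, h1⟩ := rank_kron_sub_ge_order hr hrq (by omega) hmin hA' hA1 (hdet B' hB') 1
  obtain ⟨-, h2⟩ := rank_kron_sub_ge_order hr hrq (by omega) hmin hB' hB1 (hdet A' hA') 1
  rw [rank_kron_comm] at h2
  have h3 : 3 * (m - 1) ≤ b * (m - 1) := Nat.mul_le_mul_right _ hb
  rcases Nat.lt_or_ge m 3 with hlt | hge
  · have := hrk2 (by omega)
    omega
  · have hm3 : m = 3 := by omega
    subst hm3
    obtain ⟨k, rfl⟩ := ha
    omega

end Cfsg.Agent.Lib.SpTensorDerange
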