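import Mathlib
import Cfsg.Agent.Lib.SpTensorDerange.Basic
import Cfsg.Agent.Lib.TensorDerange.Similar
import Cfsg.Agent.Lib.Semisimple.SympConj

/-!
# Involutions modulo scalars of the symplectic group and the stabiliser of `Sp₂ ⊗ O`
-/

set_option autoImplicit false

namespace Cfsg.Agent.Lib.SpTensorDerange

open Matrix Polynomial
open scoped Kronecker

variable {F : Type*} [Field F] {d a b : ℕ}

/-- The structure equation of a tensor decomposition. -/
theorem gram_of_structure {f₁ : (Fin a → F) → (Fin a → F) → F} {f₂ : (Fin b → F) → (Fin b → F) → F}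
    {e : (Fin d ⊕ Fin d) ≃ Fin a × Fin b} {P : GL (Fin d ⊕ Fin d) F}
    (hS : Cfsg.Geo.IsTensorFormStructure id (Cfsg.sympForm d F) f₁ f₂ e P) :
    ∃ c : F, c ≠ 0 ∧ (P : Matrix (Fin d ⊕ Fin d) (Fin d ⊕ Fin d) F)ᵀ * Matrix.J (Fin d) F *
        (P : Matrix (Fin d ⊕ Fin d) (Fin d ⊕ Fin d) F) =
      c • (Cfsg.Geo.gramMatrix f₁ ⊗ₖ Cfsg.Geo.gramMatrix f₂).submatrix e e := by
  classical
  obtain ⟨c, hc, hS⟩ := hS
  refine ⟨c, hc, Matrix.ext fun i j => ?_⟩
  have h := hS (Pi.single (e i) 1) (Pi.single (e j) 1)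
  have hcomp : ∀ k, (Pi.single (e k) (1 : F) : Fin a × Fin b → F) ∘ e = Pi.single k 1 := fun k => by
    ext l; simp [Pi.single_apply, e.injective.eq_iff]
  rw [hcomp, hcomp, sympForm_mulVec, single_one_dotProduct, Matrix.mulVec_single_one, Matrix.col_apply] at h
  rw [h, Cfsg.Geo.formOfGram, Finset.sum_eq_single_of_mem (e i) (Finset.mem_univ _)
    (fun k _ hk => Finset.sum_eq_zero fun l _ => by simp [hk]),
    Finset.sum_eq_single_of_mem (e j) (Finset.mem_univ _) (fun l _ hl => by simp [hl])]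
  simp

/-- A pair of isometries gives a symplectic element of the stabiliser. -/
theorem exists_tensor_elt {G₁ : Matrix (Fin a) (Fin a) F} {G₂ : Matrix (Fin b) (Fin b) F}
    {e : (Fin d ⊕ Fin d) ≃ Fin a × Fin b} {P : GL (Fin d ⊕ Fin d) F} {c : F}
    (hP : (P : Matrix (Fin d ⊕ Fin d) (Fin d ⊕ Fin d) F)ᵀ * Matrix.J (Fin d) F *
        (P : Matrix (Fin d ⊕ Fin d) (Fin d ⊕ Fin d) F) = c • (G₁ ⊗ₖ G₂).submatrix e e)
    {A : Matrix (Fin a) (Fin a) F} {B : Matrix (Fin b) (Fin b) F} (hA : A ^ 4 = 1) (hB : B ^ 4 = 1)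
    (hA1 : Aᵀ * G₁ * A = G₁) (hB1 : Bᵀ * G₂ * B = G₂) :
    ∃ y : GL (Fin d ⊕ Fin d) F,
      (y : Matrix (Fin d ⊕ Fin d) (Fin d ⊕ Fin d) F) ∈ Matrix.symplecticGroup (Fin d) F ∧
      y ∈ Cfsg.Geo.tensorProductSubgroup a b e P ∧
      (y : Matrix (Fin d ⊕ Fin d) (Fin d ⊕ Fin d) F) ^ 4 = 1 ∧
      (y : Matrix (Fin d ⊕ Fin d) (Fin d ⊕ Fin d) F).charpoly = (A ⊗ₖ B).charpoly ∧
      ∀ z : F, A * A = z • 1 → B * B = 1 →
        (y : Matrix (Fin d ⊕ Fin d) (Fin d ⊕ Fin d) F) * y = z • 1 := by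
  classical
  set M : Matrix (Fin d ⊕ Fin d) (Fin d ⊕ Fin d) F := (A ⊗ₖ B).submatrix e e with hM
  have hpow : ∀ k : ℕ, M ^ k = ((A ^ k) ⊗ₖ (B ^ k)).submatrix e e := by
    intro k
    induction k with
    | zero => simp [Matrix.one_kronecker_one]
    | succ k ih => rw [pow_succ, ih, hM, Matrix.submatrix_mul_equiv, ← Matrix.mul_kronecker_mul, ← pow_succ,
        ← pow_succ]
  have hM4 : M ^ 4 = 1 := by rw [hpow, hA, hB, Matrix.one_kronecker_one, Matrix.submatrix_one_equiv]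
  set k := Units.ofPowEqOne M 4 hM4 (by norm_num)
  have hk : (k : Matrix (Fin d ⊕ Fin d) (Fin d ⊕ Fin d) F) = M := rfl
  refine ⟨P * k * P⁻¹, ?_, ?_, ?_, ?_, ?_⟩
  · have hMG : Mᵀ * (c • (G₁ ⊗ₖ G₂).submatrix e e) * M = c • (G₁ ⊗ₖ G₂).submatrix e e := by
      rw [Matrix.mul_smul, Matrix.smul_mul, hM, Matrix.transpose_submatrix, Matrix.submatrix_mul_equiv,
        Matrix.submatrix_mul_equiv, ← Matrix.kroneckerMap_transpose, ← Matrix.mul_kronecker_mul,
        ← Matrix.mul_kronecker_mul, hA1, hB1]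
    rw [SymplecticGroup.mem_iff', Units.val_mul, Units.val_mul, hk, Matrix.transpose_mul,
      Matrix.transpose_mul]
    calc _ = ((P⁻¹ : GL (Fin d ⊕ Fin d) F) : Matrix (Fin d ⊕ Fin d) (Fin d ⊕ Fin d) F)ᵀ *
          (Mᵀ * ((P : Matrix (Fin d ⊕ Fin d) (Fin d ⊕ Fin d) F)ᵀ * Matrix.J (Fin d) F *
            (P : Matrix (Fin d ⊕ Fin d) (Fin d ⊕ Fin d) F)) * M) *
          ((P⁻¹ : GL (Fin d ⊕ Fin d) F) : Matrix (Fin d ⊕ Fin d) (Fin d ⊕ Fin d) F) := by
          simp only [Matrix.mul_assoc]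
      _ = ((P : Matrix (Fin d ⊕ Fin d) (Fin d ⊕ Fin d) F) *
            ((P⁻¹ : GL (Fin d ⊕ Fin d) F) : Matrix (Fin d ⊕ Fin d) (Fin d ⊕ Fin d) F))ᵀ *
          Matrix.J (Fin d) F * ((P : Matrix (Fin d ⊕ Fin d) (Fin d ⊕ Fin d) F) *
            ((P⁻¹ : GL (Fin d ⊕ Fin d) F) : Matrix (Fin d ⊕ Fin d) (Fin d ⊕ Fin d) F)) := by
          rw [hP, hMG, ← hP]; simp only [Matrix.transpose_mul, Matrix.mul_assoc]
      _ = _ := by rw [← Units.val_mul, mul_inv_cancel, Units.val_one, transpose_one, one_mul, mul_one]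
  · refine (mem_tensor_iff' e P _).2
      ⟨Units.ofPowEqOne A 4 hA (by norm_num), Units.ofPowEqOne B 4 hB (by norm_num), ?_⟩
    rw [show P⁻¹ * (P * k * P⁻¹) * P = k by group]
    rfl
  · have hk4 : k ^ 4 = 1 := Units.ext (by rw [Units.val_pow_eq_pow_val, hk, hM4, Units.val_one])
    rw [← Units.val_pow_eq_pow_val, conj_pow, hk4, mul_one, mul_inv_cancel, Units.val_one]
  · rw [Units.val_mul, Units.val_mul, Matrix.coe_units_inv, Matrix.charpoly_units_conj, hk, hM,
      ← Matrix.charpoly_reindex e.symm]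
    rfl
  · intro z hz hBB
    rw [← Units.val_mul, show P * k * P⁻¹ * (P * k * P⁻¹) = P * (k * k) * P⁻¹ by group, Units.val_mul,
      Units.val_mul, Units.val_mul, hk, hM, Matrix.submatrix_mul_equiv, ← Matrix.mul_kronecker_mul, hz, hBB,
      Matrix.smul_kronecker, Matrix.one_kronecker_one]
    rw [show (z • (1 : Matrix (Fin a × Fin b) (Fin a × Fin b) F)).submatrix e e =
      z • (1 : Matrix (Fin d ⊕ Fin d) (Fin d ⊕ Fin d) F) by
        ext i j; simp [Matrix.one_apply, e.injective.eq_iff]]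
    rw [Matrix.mul_smul, Matrix.mul_one, Matrix.smul_mul, ← Units.val_mul, mul_inv_cancel, Units.val_one]

/-- The characteristic polynomial of a symplectic square root of `-1`. -/
theorem charpoly_of_sq_eq_neg_one (h2 : (2 : F) ≠ 0) {Y : Matrix (Fin d ⊕ Fin d) (Fin d ⊕ Fin d) F}
    (hY : Y ∈ Matrix.symplecticGroup (Fin d) F) (hY2 : Y * Y = -1) :
    Y.charpoly = (X ^ 2 + 1) ^ d := by
  classical
  rw [SymplecticGroup.mem_iff'] at hY
  have h1 : Yᵀ * Matrix.J (Fin d) F = Matrix.J (Fin d) F * -Y := by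
    have h : Yᵀ * Matrix.J (Fin d) F * Y * Y = Matrix.J (Fin d) F * Y := by rw [hY]
    rw [Matrix.mul_assoc (Yᵀ * Matrix.J (Fin d) F) Y Y, hY2, Matrix.mul_neg, Matrix.mul_one] at h
    rw [Matrix.mul_neg, ← h, neg_neg]
  have hneg : (-Y).charpoly = Y.charpoly := by
    have e : -Y = ((Semisimple.jUnit F d)⁻¹ : GL (Fin d ⊕ Fin d) F).val * Yᵀ *
        (Semisimple.jUnit F d : GL (Fin d ⊕ Fin d) F).val := by
      rw [Matrix.mul_assoc, Semisimple.jUnit_val, h1, ← Semisimple.jUnit_val, Units.inv_mul_cancel_left]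
    rw [e, Matrix.coe_units_inv, Matrix.charpoly_units_conj', Matrix.charpoly_transpose]
  have hprod : Y.charmatrix * (-Y).charmatrix =
      Matrix.scalar (Fin d ⊕ Fin d) ((X : F[X]) ^ 2 + 1) := by
    rw [Matrix.charmatrix, Matrix.charmatrix, map_neg, sub_neg_eq_add, sub_mul, mul_add, mul_add]
    have hc : Matrix.scalar (Fin d ⊕ Fin d) (X : F[X]) * (C : F →+* F[X]).mapMatrix Y =
        (C : F →+* F[X]).mapMatrix Y * Matrix.scalar (Fin d ⊕ Fin d) (X : F[X]) :=
      (Matrix.scalar_commute _ (fun r' => Commute.all _ r') _).eq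
    rw [hc, ← map_mul, ← map_mul, hY2, map_neg, map_one, map_add, map_one, sq]
    abel
  have hdet := congrArg Matrix.det hprod
  rw [Matrix.det_mul, Matrix.scalar_apply, Matrix.det_diagonal, Finset.prod_const, Finset.card_univ,
    Fintype.card_sum, Fintype.card_fin] at hdet
  change Y.charpoly * (-Y).charpoly = _ at hdet
  rw [hneg, pow_add] at hdet
  rcases mul_self_eq_mul_self_iff.1 hdet with h | h
  · exact h
  · exfalso
    have hl := congrArg Polynomial.leadingCoeff h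
    rw [Polynomial.leadingCoeff_neg, Y.charpoly_monic.leadingCoeff,
      (((monic_X_pow (R := F) 2).add_of_left (by rw [degree_X_pow, degree_one]; norm_num)).pow d).leadingCoeff] at hl
    exact h2 (by linear_combination hl)

/-- An involution of determinant one. -/
theorem charpoly_of_invol (h2 : (2 : F) ≠ 0) {Y : Matrix (Fin d ⊕ Fin d) (Fin d ⊕ Fin d) F}
    (hdet : Y.det = 1) (hY2 : Y * Y = 1) :
    ∃ t ≤ d, Y.charpoly = (X - C (-1 : F)) ^ (t + t) * (X - C (1 : F)) ^ (d + d - (t + t)) := by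
  classical
  set Y' : Matrix (Fin (d + d)) (Fin (d + d)) F := Matrix.reindex finSumFinEquiv finSumFinEquiv Y with hY'
  have hY'2 : Y' * Y' = 1 := by
    rw [hY', Matrix.reindex_apply, Matrix.submatrix_mul_equiv, hY2, Matrix.submatrix_one_equiv]
  obtain ⟨T, v, hT, hv, hYT⟩ := TensorDerange.exists_diag_of_invol h2 hY'2
  have hn1 : (1 : F) ≠ -1 := fun h => h2 (by linear_combination h)
  set S := Finset.univ.filter fun i => v i = -1
  have hvS : ∀ i, v i = if i ∈ S then -1 else 1 := by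
    intro i
    rcases hv i with h | h
    · rw [if_neg (by simp [S, h, hn1]), h]
    · rw [if_pos (by simp [S, h]), h]
  obtain ⟨uT, rfl⟩ := (Matrix.isUnit_iff_isUnit_det T).2 hT
  have hY'' : Y' = uT.val * Matrix.diagonal v * (uT⁻¹ : GL (Fin (d + d)) F).val := by
    rw [← hYT, Units.mul_inv_cancel_right]
  have hsgn : (-1 : F) ^ S.card = 1 := by
    have h1 : Y'.det = 1 := by rw [hY', Matrix.det_reindex_self, hdet]
    rw [hY'', Matrix.det_units_conj, Matrix.det_diagonal] at h1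
    simp only [hvS] at h1
    rw [Finset.prod_ite, Finset.prod_const, Finset.prod_const_one, mul_one, Finset.filter_univ_mem] at h1
    exact h1
  obtain ⟨t, ht⟩ : Even S.card := by
    rcases Nat.even_or_odd S.card with h | h
    · exact h
    · rw [h.neg_one_pow] at hsgn; exact absurd hsgn.symm hn1
  have hle : S.card ≤ d + d := by simpa using S.card_le_univ
  refine ⟨t, by omega, ?_⟩
  rw [← Matrix.charpoly_reindex finSumFinEquiv Y, ← hY', hY'', Matrix.coe_units_inv, Matrix.charpoly_units_conj,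
    Matrix.charpoly_diagonal]
  simp only [hvS, apply_ite C, apply_ite (fun u : F[X] => X - u)]
  rw [Finset.prod_ite, Finset.prod_const, Finset.prod_const, ← ht]
  congr 1
  · congr 2; ext i; simp
  · congr 1
    rw [Finset.filter_not, Finset.card_sdiff_of_subset (by simp)]
    simp

/-- Orthogonal involutions with any number of sign changes. -/
theorem exists_orth_invol (h2 : (2 : F) ≠ 0) {G : Matrix (Fin b) (Fin b) F} (hG : Gᵀ = G) {t : ℕ} (ht : t ≤ b) :
    ∃ B : Matrix (Fin b) (Fin b) F, B * B = 1 ∧ Bᵀ * G * B = G ∧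
      ((1 : Matrix (Fin 2) (Fin 2) F) ⊗ₖ B).charpoly =
        (X - C (-1 : F)) ^ (t + t) * (X - C (1 : F)) ^ (b + b - (t + t)) := by
  classical
  haveI : Invertible (2 : F) := invertibleOfNonzero h2
  have hsymm : LinearMap.IsSymm (Matrix.toBilin' G) := by
    refine ⟨fun x y => ?_⟩
    simp only [RingHom.id_apply, Matrix.toBilin'_apply']
    rw [Matrix.dotProduct_mulVec, ← Matrix.mulVec_transpose, hG, dotProduct_comm]
  obtain ⟨v, hv⟩ := LinearMap.BilinForm.exists_orthogonal_basis hsymm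
  set v' := v.reindex (finCongr (Module.finrank_fin_fun F))
  set Q : Matrix (Fin b) (Fin b) F := Matrix.of fun i j => v' j i
  have hQu : IsUnit Q := Matrix.linearIndependent_cols_iff_isUnit.1 v'.linearIndependent
  have hQG : Qᵀ * G * Q = Matrix.diagonal fun j => (Qᵀ * G * Q) j j := by
    ext i j
    by_cases hij : i = j
    · subst hij; rw [Matrix.diagonal_apply_eq]
    · rw [Matrix.diagonal_apply_ne _ hij]
      have h : Matrix.toBilin' G (v' i) (v' j) = 0 := by
        simp only [v', Module.Basis.reindex_apply]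
        exact hv fun h => hij ((finCongr (Module.finrank_fin_fun F)).symm.injective h)
      rw [Matrix.toBilin'_apply'] at h
      rw [Matrix.mul_assoc, ← h]
      simp only [Matrix.mul_apply, Matrix.transpose_apply, dotProduct, Matrix.mulVec, Q, Matrix.of_apply]
  obtain ⟨u, hu⟩ := hQu
  set w : Fin b → F := fun j => if (j : ℕ) < t then -1 else 1
  have hw : ∀ j, w j * w j = 1 := fun j => by simp only [w]; split <;> simp
  set D := Matrix.diagonal w
  refine ⟨u.val * D * (u⁻¹ : GL (Fin b) F).val, ?_, ?_, ?_⟩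
  · calc _ = u.val * (D * ((u⁻¹ : GL (Fin b) F).val * u.val) * D) * (u⁻¹ : GL (Fin b) F).val := by
          simp only [Matrix.mul_assoc]
      _ = _ := by
          rw [← Units.val_mul, inv_mul_cancel, Units.val_one, Matrix.mul_one, Matrix.diagonal_mul_diagonal]
          simp only [hw, Matrix.diagonal_one, Matrix.mul_one, Units.mul_inv]
  · have hD : Dᵀ * (Qᵀ * G * Q) * D = Qᵀ * G * Q := by
      rw [hQG, Matrix.diagonal_transpose, Matrix.diagonal_mul_diagonal, Matrix.diagonal_mul_diagonal]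
      congr 1
      funext j
      rw [mul_comm (w j), mul_assoc, hw, mul_one]
    rw [← hu] at hD
    calc _ = (u⁻¹ : GL (Fin b) F).valᵀ * (Dᵀ * (u.valᵀ * G * u.val) * D) * (u⁻¹ : GL (Fin b) F).val := by
          simp only [Matrix.transpose_mul, Matrix.mul_assoc]
      _ = (u.val * (u⁻¹ : GL (Fin b) F).val)ᵀ * G * (u.val * (u⁻¹ : GL (Fin b) F).val) := by
          rw [hD]; simp only [Matrix.transpose_mul, Matrix.mul_assoc]
      _ = G := by rw [Units.mul_inv, transpose_one, Matrix.one_mul, Matrix.mul_one]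
  · set u' : (Matrix (Fin 2 × Fin b) (Fin 2 × Fin b) F)ˣ :=
      ⟨(1 : Matrix (Fin 2) (Fin 2) F) ⊗ₖ u.val, (1 : Matrix (Fin 2) (Fin 2) F) ⊗ₖ (u⁻¹ : GL (Fin b) F).val,
        by rw [← Matrix.mul_kronecker_mul, Units.mul_inv, Matrix.one_mul, Matrix.one_kronecker_one],
        by rw [← Matrix.mul_kronecker_mul, Units.inv_mul, Matrix.one_mul, Matrix.one_kronecker_one]⟩
    have he : (1 : Matrix (Fin 2) (Fin 2) F) ⊗ₖ (u.val * D * (u⁻¹ : GL (Fin b) F).val) =
        u'.val * ((1 : Matrix (Fin 2) (Fin 2) F) ⊗ₖ D) * (u'⁻¹).val := by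
      show _ = _ * _ * ((1 : Matrix (Fin 2) (Fin 2) F) ⊗ₖ (u⁻¹ : GL (Fin b) F).val)
      rw [← Matrix.mul_kronecker_mul, ← Matrix.mul_kronecker_mul, Matrix.one_mul, Matrix.one_mul]
    rw [he, Matrix.coe_units_inv, Matrix.charpoly_units_conj, ← Matrix.diagonal_one, Matrix.diagonal_kronecker_diagonal,
      Matrix.charpoly_diagonal, Fintype.prod_prod_type, Fin.prod_univ_two]
    simp only [one_mul, w, apply_ite C, apply_ite (fun u : F[X] => X - u)]
    rw [Finset.prod_ite, Finset.prod_const, Finset.prod_const]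
    have hc : (Finset.univ.filter fun j : Fin b => (j : ℕ) < t).card = t := by
      rw [show (Finset.univ.filter fun j : Fin b => (j : ℕ) < t) = Finset.univ.map (Fin.castLEEmb ht) from ?_,
        Finset.card_map, Finset.card_univ, Fintype.card_fin]
      ext j
      simp only [Finset.mem_filter, Finset.mem_univ, true_and, Finset.mem_map]
      exact ⟨fun h => ⟨⟨j, h⟩, rfl⟩, by rintro ⟨k, rfl⟩; exact k.2⟩
    rw [Finset.filter_not, Finset.card_sdiff_of_subset (by simp), hc, Finset.card_univ, Fintype.card_fin,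
      show b + b - (t + t) = (b - t) + (b - t) by omega, pow_add, pow_add]
    ring

/-- Every involution modulo scalars fixes a point when `a = 2`. -/
theorem allFix_two [Fintype F] {p : ℕ} [Fact p.Prime] [CharP F p] (hd : 0 < d) (hp2 : p ≠ 2)
    (e : (Fin d ⊕ Fin d) ≃ Fin 2 × Fin b) (P : GL (Fin d ⊕ Fin d) F)
    {f₁ : (Fin 2 → F) → (Fin 2 → F) → F} {f₂ : (Fin b → F) → (Fin b → F) → F}
    (hf₁ : Cfsg.Geo.IsSymplecticForm f₁) (hf₂ : Cfsg.Geo.IsSymmetricForm f₂)
    (hS : Cfsg.Geo.IsTensorFormStructure id (Cfsg.sympForm d F) f₁ f₂ e P) : AllFix e P 2 := by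
  classical
  have hcop : Nat.Coprime 4 p := (Nat.Coprime.pow_left 2 ((Nat.coprime_primes Nat.prime_two Fact.out).2 hp2.symm))
  have h2 : (2 : F) ≠ 0 := by
    exact_mod_cast Semisimple.natCast_ne_zero_of_coprime (F := F) (p := p)
      ((Nat.coprime_primes Nat.prime_two Fact.out).2 hp2.symm)
  have hb : d = b := by have := card_eq_mul e; omega
  obtain ⟨c, -, hP⟩ := gram_of_structure hS
  rintro x hx ⟨z, hz⟩ -
  set Y : Matrix (Fin d ⊕ Fin d) (Fin d ⊕ Fin d) F :=
    (x : Matrix (Fin d ⊕ Fin d) (Fin d ⊕ Fin d) F) with hY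
  have hYsp := (mem_spGL_iff_mem x).1 hx
  have hYY : Y * Y = z • 1 := by rw [← hz, Units.val_pow_eq_pow_val, sq]
  have hz1 : z = 1 ∨ z = -1 := by
    have h := Submonoid.mul_mem _ hYsp hYsp
    rw [hYY, SymplecticGroup.mem_iff'] at h
    rw [Matrix.transpose_smul, Matrix.transpose_one, Matrix.smul_mul, Matrix.one_mul, Matrix.mul_smul,
      Matrix.mul_one, smul_smul] at h
    have h1 := congrFun (congrFun h (Sum.inr ⟨0, hd⟩)) (Sum.inl ⟨0, hd⟩)
    simp [Matrix.J] at h1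
    exact mul_self_eq_one_iff.1 h1
  have hY4 : Y ^ 4 = 1 := by
    rw [show (4 : ℕ) = 2 * 2 from rfl, pow_mul, sq Y, hYY, _root_.smul_pow, one_pow, sq]
    rcases hz1 with rfl | rfl <;> simp
  -- a model in the stabiliser
  obtain ⟨y, hysp, hymem, hy4, hyc⟩ : ∃ y : GL (Fin d ⊕ Fin d) F,
      (y : Matrix (Fin d ⊕ Fin d) (Fin d ⊕ Fin d) F) ∈ Matrix.symplecticGroup (Fin d) F ∧
      y ∈ Cfsg.Geo.tensorProductSubgroup 2 b e P ∧
      (y : Matrix (Fin d ⊕ Fin d) (Fin d ⊕ Fin d) F) ^ 4 = 1 ∧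
      (y : Matrix (Fin d ⊕ Fin d) (Fin d ⊕ Fin d) F).charpoly = Y.charpoly := by
    rcases hz1 with rfl | rfl
    · rw [one_smul] at hYY
      obtain ⟨t, ht, hYc⟩ := charpoly_of_invol h2 (SymplecticGroup.det_eq_one hYsp) hYY
      obtain ⟨B, hBB, hBG, hBc⟩ := exists_orth_invol h2 (G := Cfsg.Geo.gramMatrix f₂)
        (by ext i j; exact hf₂.symm _ _) (t := t) (hb ▸ ht)
      obtain ⟨y, h1, h2', h3, h4, -⟩ := exists_tensor_elt hP (A := 1) (B := B) (one_pow 4)
        (by rw [show (4 : ℕ) = 2 * 2 from rfl, pow_mul, sq B, hBB, one_pow]) (by simp) hBG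
      refine ⟨y, h1, h2', h3, ?_⟩
      rw [h4, hBc, hYc, hb]
    · rw [neg_one_smul] at hYY
      set A : Matrix (Fin 2) (Fin 2) F := !![0, 1; -1, 0] with hA
      have hAA : A * A = (-1 : F) • 1 := by
        ext i j; fin_cases i <;> fin_cases j <;> simp [hA]
      have hAG : Aᵀ * Cfsg.Geo.gramMatrix f₁ * A = Cfsg.Geo.gramMatrix f₁ := by
        have h0 : ∀ i, Cfsg.Geo.gramMatrix f₁ i i = 0 := fun i => hf₁.alternating _
        have h10 : Cfsg.Geo.gramMatrix f₁ 1 0 = - Cfsg.Geo.gramMatrix f₁ 0 1 := hf₁.skew _ _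
        ext i j
        fin_cases i <;> fin_cases j <;>
          simp [hA, Matrix.mul_apply, Fin.sum_univ_two, h0, h10]
      obtain ⟨y, h1, h2', h3, -, h5⟩ := exists_tensor_elt hP (A := A) (B := 1)
        (by rw [show (4 : ℕ) = 2 * 2 from rfl, pow_mul, sq A, hAA, _root_.smul_pow, one_pow, neg_one_sq, one_smul])
        (one_pow 4) hAG (by simp)
      refine ⟨y, h1, h2', h3, ?_⟩
      rw [charpoly_of_sq_eq_neg_one h2 hYsp hYY,
        charpoly_of_sq_eq_neg_one h2 h1 (by rw [h5 (-1) hAA (one_mul 1), neg_one_smul])]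
  obtain ⟨H, hH, hHY⟩ := Semisimple.exists_symplectic_conj hYsp hysp hcop hY4 hcop hy4 hyc.symm
  refine ⟨(spUnit hH)⁻¹, inv_mem (spUnit_mem hH), ?_⟩
  have e1 : spUnit hH * x = y * spUnit hH := Units.ext hHY
  rw [inv_inv, e1, mul_inv_cancel_right]
  exact hymem

end Cfsg.Agent.Lib.SpTensorDerange
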